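import Cfsg.Agent.Lib.KnownA.Fi22Schur.Lifts
import Cfsg.Prelude.Def_KGroupFacts

/-!
Stem extensions of the presented Fischer group have cyclic kernels of order dividing six.
-/

set_option autoImplicit false
set_option maxRecDepth 100000
set_option linter.unusedSectionVars false

namespace CfsgLib.KnownA.Fi22Schur

open Cfsg.Spor CfsgLib.InvChar CfsgLib.InvChar.Coset CfsgLib.KnownA.CExt CfsgLib.Trans3.Spider
open scoped commutatorElement

/-- The only relators beyond those of the graph. -/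
theorem rels_cases : ∀ r ∈ FiA.rels, (∃ x < 9, ∃ y < 9, r = coxWord Fi22.edges SporFi22.ofN x y) ∨
    r = spWord ∨ r = e1Word ∨ r = e2Word := by decide +kernel

theorem words_rels : spWord ∈ FiA.rels ∧ e1Word ∈ FiA.rels ∧ e2Word ∈ FiA.rels ∧
    (∀ r ∈ FiA.rels, ∀ x ∈ r, x < 9) := by decide +kernel

theorem cox_cases : ∀ x < 9, ∀ y < 9, coxWord Fi22.edges SporFi22.ofN x y =
    (List.replicate (lab x y) [x, y]).flatten := by decide +kernel

theorem node_min : ∀ x, node (min x 8) = node x := by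
  intro x
  rcases Nat.lt_or_ge x 9 with h | h
  · rw [Nat.min_eq_left (by omega)]
  · rw [Nat.min_eq_right (by omega)]
    obtain ⟨k, rfl⟩ : ∃ k, x = k + 9 := ⟨x - 9, by omega⟩
    rfl

section Central

variable {A : Type*} [CommGroup A] (deg : A →* Multiplicative ℤ) {q s e₁ e₂ : A}

theorem deg_zero_mem (hq : deg q = Multiplicative.ofAdd 2) (hs : deg s = Multiplicative.ofAdd 90)
    (h₁ : deg e₁ = Multiplicative.ofAdd 63) (h₂ : deg e₂ = Multiplicative.ofAdd 63)
    (hs3 : s ^ 3 = q ^ 135) (h12 : e₁ ^ 2 = q ^ 63) (h22 : e₂ ^ 2 = q ^ 63) :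
    ∃ g : A, g ^ 6 = 1 ∧ ∀ a b c d : ℤ, deg (q ^ a * s ^ b * e₁ ^ c * e₂ ^ d) = 1 →
      q ^ a * s ^ b * e₁ ^ c * e₂ ^ d ∈ Subgroup.zpowers g := by
  set t := s * q ^ (-45 : ℤ) with htdef
  set δ := e₁ * e₂⁻¹ with hδdef
  have ht : t ^ 3 = 1 := by
    rw [htdef, mul_pow, hs3, ← zpow_natCast, ← zpow_natCast (q ^ (-45 : ℤ)), ← zpow_mul, ← zpow_add]
    norm_num
  have hδ : δ ^ 2 = 1 := by rw [hδdef, mul_pow, inv_pow, h12, h22, mul_inv_cancel]
  refine ⟨t * δ, ?_, fun a b c d hdeg => ?_⟩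
  · rw [mul_pow, show 6 = 3 * 2 from rfl, pow_mul, ht, one_pow, one_mul, mul_comm 3 2, pow_mul, hδ, one_pow]
  have hsum : 2 * a + 90 * b + 63 * c + 63 * d = 0 := by
    have h := congrArg Multiplicative.toAdd hdeg
    simp only [map_mul, map_zpow, hq, hs, h₁, h₂, toAdd_mul, toAdd_zpow, toAdd_ofAdd, toAdd_one,
      smul_eq_mul] at h
    linarith
  obtain ⟨n, hn⟩ : ∃ n, c + d = 2 * n := ⟨(c + d) / 2, by omega⟩
  have hd' : d = 2 * n - c := by omega
  have ha : a + 45 * b + 63 * n = 0 := by omega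
  refine Subgroup.mem_zpowers_iff.2 ⟨4 * b + 3 * c, ?_⟩
  have ht' : t ^ (3 : ℤ) = 1 := by rw [show (3 : ℤ) = ((3 : ℕ) : ℤ) from rfl, zpow_natCast, ht]
  have hδ' : δ ^ (2 : ℤ) = 1 := by rw [show (2 : ℤ) = ((2 : ℕ) : ℤ) from rfl, zpow_natCast, hδ]
  have e2' : e₂ ^ (2 : ℤ) = q ^ (63 : ℤ) := by
    rw [show (2 : ℤ) = ((2 : ℕ) : ℤ) from rfl, show (63 : ℤ) = ((63 : ℕ) : ℤ) from rfl, zpow_natCast,
      zpow_natCast, h22]
  calc (t * δ) ^ (4 * b + 3 * c) = t ^ b * δ ^ c := by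
        rw [mul_zpow, show 4 * b + 3 * c = b + 3 * (b + c) by ring, zpow_add, zpow_mul, ht', one_zpow,
          mul_one, show b + 3 * (b + c) = c + 2 * (2 * b + c) by ring, zpow_add, zpow_mul, hδ', one_zpow,
          mul_one]
    _ = (q ^ (-45 * b) * s ^ b) * (e₁ ^ c * e₂ ^ (-c)) := by
        rw [htdef, hδdef, mul_zpow, mul_zpow, inv_zpow', ← zpow_mul, mul_comm (s ^ b)]
    _ = q ^ (a + 63 * n) * s ^ b * (e₁ ^ c * e₂ ^ (-c)) := by rw [show a + 63 * n = -45 * b by linarith]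
    _ = q ^ a * s ^ b * e₁ ^ c * (q ^ (63 * n) * e₂ ^ (-c)) := by
        rw [zpow_add]; simp only [mul_assoc, mul_comm, mul_left_comm]
    _ = q ^ a * s ^ b * e₁ ^ c * e₂ ^ d := by
        rw [zpow_mul, ← e2', ← zpow_mul, ← zpow_add, show 2 * n + -c = d by omega]

end Central

variable {Γ : Type*} [Group Γ] [Finite Γ] {σ : Γ →* Fi22} (hσ : Cfsg.IsStemExtension σ)
include hσ

/-- The bound. -/
theorem stem_bound : IsCyclic σ.ker ∧ Nat.card σ.ker ∣ 6 := by
  have hcs : IsCentralSurj σ := ⟨hσ.1, hσ.2.1⟩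
  obtain ⟨X, hX, hcomm, hbraid, hsq⟩ := exists_lifts hcs
  set one : Multiplicative ℤ := Multiplicative.ofAdd 1
  set f : ℕ → Γ × Multiplicative ℤ := fun x => (X (min x 8), one) with hf
  have hmin : ∀ x, min x 8 < 9 := fun x => by omega
  have hlab : ∀ x y, lab (min x 8) (min y 8) = lab x y := fun x y => by simp only [lab, node_min]
  have hdeg : ∀ w : List ℕ, (wprod f w).2 = Multiplicative.ofAdd (w.length : ℤ) := by
    intro w
    induction w with
    | nil => rfl
    | cons x w ih =>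
      show one * (wprod f w).2 = _
      rw [ih, ← ofAdd_add, List.length_cons, Nat.cast_succ, add_comm]
  have hfst : ∀ w : List ℕ, (∀ x ∈ w, x < 9) → σ (wprod f w).1 = wprod gn w := by
    intro w
    induction w with
    | nil => exact fun _ => map_one σ
    | cons x w ih =>
      intro hw
      show σ (X (min x 8) * (wprod f w).1) = gn x * wprod gn w
      rw [map_mul, ih fun y hy => hw y (List.mem_cons_of_mem _ hy), hX _ (hmin x),
        Nat.min_eq_left (by have := hw x List.mem_cons_self; omega)]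
  -- central elements
  have hcen : ∀ z : Γ × Multiplicative ℤ, σ z.1 = 1 → z ∈ Subgroup.center (Γ × Multiplicative ℤ) := fun z hz =>
    Subgroup.mem_center_iff.2 fun r => Prod.ext (hcs.comm hz r.1) (mul_comm _ _)
  have hrel1 : ∀ w : List ℕ, w ∈ FiA.rels → wprod f w ∈ Subgroup.center (Γ × Multiplicative ℤ) := fun w hw =>
    hcen _ (by rw [hfst w (words_rels.2.2.2 w hw)]; exact SporFi22.pres.gen_rel w hw)
  let Z := Subgroup.center (Γ × Multiplicative ℤ)
  have hqm : f 0 * f 0 ∈ Z := hcen _ (by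
    show σ (X 0 * X 0) = 1
    rw [map_mul, hX 0 (by norm_num), SporFi22.gen_mul_self])
  set q : Z := ⟨_, hqm⟩
  set s : Z := ⟨_, hrel1 _ words_rels.1⟩
  set e₁ : Z := ⟨_, hrel1 _ words_rels.2.1⟩
  set e₂ : Z := ⟨_, hrel1 _ words_rels.2.2.1⟩
  let deg : Z →* Multiplicative ℤ := (MonoidHom.snd _ _).comp Z.subtype
  have dq : deg q = Multiplicative.ofAdd 2 := rfl
  -- the quotient by the common square
  have hfsq : ∀ x, f x * f x = f 0 * f 0 := fun x => Prod.ext (hsq _ (hmin x)) rfl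
  let N₀ := Subgroup.zpowers (f 0 * f 0)
  haveI : N₀.Normal := ⟨fun n hn g => by
    have : n ∈ Z := Subgroup.zpowers_le.2 hqm hn
    rw [Subgroup.mem_center_iff.1 this g, mul_inv_cancel_right]; exact hn⟩
  let p₀ := QuotientGroup.mk' N₀
  have hmap : ∀ w, p₀ (wprod f w) = wprod (fun x => p₀ (f x)) w := fun w => by
    simp only [wprod, map_list_prod, List.map_map]; rfl
  have m1 : ∀ x, p₀ (f x) * p₀ (f x) = 1 := fun x => by
    rw [← map_mul, hfsq]; exact (QuotientGroup.eq_one_iff _).2 (Subgroup.mem_zpowers _)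
  have m2 : ∀ x y, lab x y = 2 → p₀ (f x) * p₀ (f y) = p₀ (f y) * p₀ (f x) := fun x y h => by
    rw [← map_mul, ← map_mul]
    exact congrArg p₀ (Prod.ext (hcomm _ (hmin x) _ (hmin y) (by rw [hlab, h])) rfl)
  have m3 : ∀ x y, lab x y = 3 →
      p₀ (f x) * p₀ (f y) * p₀ (f x) = p₀ (f y) * p₀ (f x) * p₀ (f y) := fun x y h => by
    simp only [← map_mul]
    exact congrArg p₀ (Prod.ext (hbraid _ (hmin x) _ (hmin y) (by rw [hlab, h])) rfl)
  have hpow : ∀ (z : Z) (k : ℕ), p₀ (z : Γ × Multiplicative ℤ) = 1 → deg z = Multiplicative.ofAdd ((2 * k : ℕ) : ℤ) →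
      z = q ^ k := by
    intro z k hz hd
    obtain ⟨j, hj⟩ := Subgroup.mem_zpowers_iff.1 ((QuotientGroup.eq_one_iff _).1 hz)
    have hzj : z = q ^ j := Subtype.ext (by rw [← hj]; rfl)
    rw [hzj, map_zpow, dq] at hd
    have h := congrArg Multiplicative.toAdd hd
    simp only [toAdd_zpow, toAdd_ofAdd, smul_eq_mul] at h
    push_cast at h
    rw [hzj, show j = (k : ℤ) by linarith, zpow_natCast]
  have triv : ∀ {ms w : List ℕ}, moves lab ms w = some [] → p₀ (wprod f w) = 1 := fun h => by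
    rw [hmap, moves_sound m1 m2 m3 _ _ _ h]; rfl
  have h12 : e₁ ^ 2 = q ^ 63 := hpow _ _ (by
    show p₀ ((wprod f e1Word) ^ 2) = 1
    rw [pow_two, ← wprod_append]; exact triv e1_trivial) (by
    show (wprod f e1Word).2 ^ 2 = _
    rw [hdeg]; rfl)
  have h22 : e₂ ^ 2 = q ^ 63 := hpow _ _ (by
    show p₀ ((wprod f e2Word) ^ 2) = 1
    rw [pow_two, ← wprod_append]; exact triv e2_trivial) (by
    show (wprod f e2Word).2 ^ 2 = _
    rw [hdeg]; rfl)
  have hs3 : s ^ 3 = q ^ 135 := hpow _ _ (by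
    have h := triv tri_trivial
    have hc : ∀ g, p₀ g * p₀ (wprod f spWord) * (p₀ g)⁻¹ = p₀ (wprod f spWord) := fun g => by
      rw [← map_inv, ← map_mul, ← map_mul, Subgroup.mem_center_iff.1 (hrel1 _ words_rels.1) g,
        mul_inv_cancel_right]
    have hrev : ∀ w, wprod (fun x => p₀ (f x)) w.reverse = (wprod (fun x => p₀ (f x)) w)⁻¹ :=
      fun w => wprod_reverse _ m1 w
    rw [triWord, wprod_append, wprod_append, wprod_append, wprod_append, wprod_append, wprod_append, map_mul,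
      map_mul, map_mul, map_mul, map_mul, map_mul, hmap conj1.reverse, hrev, ← hmap, hmap conj2.reverse, hrev,
      ← hmap, hc, hc] at h
    show p₀ ((wprod f spWord) ^ 3) = 1
    rw [map_pow, pow_succ, pow_two]; exact h) (by
    show (wprod f spWord).2 ^ 3 = _
    rw [hdeg]; rfl)
  letI : CommGroup Z := { (inferInstance : Group Z) with
    mul_comm := fun a b => Subtype.ext (Subgroup.mem_center_iff.1 b.2 a.1) }
  obtain ⟨g, hg6, hg⟩ := deg_zero_mem (A := Z) (q := q) (s := s) (e₁ := e₁) (e₂ := e₂) deg dq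
    (by show (wprod f spWord).2 = _; rw [hdeg]; rfl) (by show (wprod f e1Word).2 = _; rw [hdeg]; rfl)
    (by show (wprod f e2Word).2 = _; rw [hdeg]; rfl) hs3 h12 h22
  -- the quotient by the relation values
  let N : Subgroup (Γ × Multiplicative ℤ) :=
    (Subgroup.zpowers q ⊔ Subgroup.zpowers s ⊔ Subgroup.zpowers e₁ ⊔ Subgroup.zpowers e₂).map Z.subtype
  have hNZ : N ≤ Z := Subgroup.map_subtype_le _
  haveI : N.Normal := ⟨fun n hn g => by
    rw [Subgroup.mem_center_iff.1 (hNZ hn) g, mul_inv_cancel_right]; exact hn⟩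
  let p := QuotientGroup.mk' N
  have hpz : ∀ z : Z, z ∈ Subgroup.zpowers q ⊔ Subgroup.zpowers s ⊔ Subgroup.zpowers e₁ ⊔ Subgroup.zpowers e₂ →
      p (z : Γ × Multiplicative ℤ) = 1 := fun z hz => (QuotientGroup.eq_one_iff _).2 ⟨z, hz, rfl⟩
  have n1 : ∀ x, p (f x) * p (f x) = 1 := fun x => by
    rw [← map_mul, hfsq]
    exact hpz q (Subgroup.mem_sup_left (Subgroup.mem_sup_left (Subgroup.mem_sup_left (Subgroup.mem_zpowers q))))
  have hwp : ∀ w, p (wprod f w) = wprod (fun x => p (f x)) w := fun w => by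
    simp only [wprod, map_list_prod, List.map_map]; rfl
  obtain ⟨ψ, hψ⟩ := SporFi22.pres.exists_hom (fun x => p (f x)) n1 (by
    intro r hr
    rcases rels_cases r hr with ⟨x, hx, y, hy, rfl⟩ | rfl | rfl | rfl
    · rw [cox_cases x hx y hy, wprod_replicate]
      rcases lab_cases x hx y hy with ⟨h, rfl⟩ | h | h <;> rw [h]
      · rw [pow_one, n1]
      · have hc : Commute (p (f x)) (p (f y)) := by
          show p (f x) * p (f y) = p (f y) * p (f x)
          rw [← map_mul, ← map_mul]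
          exact congrArg p (Prod.ext (hcomm _ (hmin x) _ (hmin y) (by rw [hlab, h])) rfl)
        rw [hc.mul_pow, pow_two, pow_two, n1, n1, one_mul]
      · refine Trans3.braid_cube (n1 x) (n1 y) ?_
        simp only [← map_mul]
        exact congrArg p (Prod.ext (hbraid _ (hmin x) _ (hmin y) (by rw [hlab, h])) rfl)
    · rw [← hwp]; exact hpz s (Subgroup.mem_sup_left (Subgroup.mem_sup_left (Subgroup.mem_sup_right (Subgroup.mem_zpowers s))))
    · rw [← hwp]; exact hpz e₁ (Subgroup.mem_sup_left (Subgroup.mem_sup_right (Subgroup.mem_zpowers e₁)))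
    · rw [← hwp]; exact hpz e₂ (Subgroup.mem_sup_right (Subgroup.mem_zpowers e₂)))
  -- the generated subgroup
  set U := Subgroup.closure (f '' Set.Iio 9) with hU
  let φ : (Γ × Multiplicative ℤ) →* Fi22 := σ.comp (MonoidHom.fst _ _)
  have hagree : ∀ u ∈ U, p u = ψ (φ u) := by
    intro u hu
    refine Subgroup.closure_induction (p := fun u _ => p u = ψ (φ u)) ?_ (by simp) ?_ ?_ hu
    · rintro _ ⟨x, hx, rfl⟩
      have hx' : x < 9 := hx
      show p (f x) = ψ (σ (X (min x 8)))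
      rw [Nat.min_eq_left (by omega), hX x hx', hψ x hx']
    · intro a b _ _ ha hb; rw [map_mul, map_mul, map_mul, ha, hb]
    · intro a _ ha; rw [map_inv, map_inv, map_inv, ha]
  have himg : U.map φ = ⊤ := by
    rw [eq_top_iff, ← SporFi22.closure_gen, Subgroup.closure_le]
    rintro _ ⟨x, hx, rfl⟩
    have hx' : x < 9 := hx
    exact ⟨f x, Subgroup.subset_closure ⟨x, hx, rfl⟩, by
      show σ (X (min x 8)) = _
      rw [Nat.min_eq_left (by omega), hX x hx']⟩
  have hcomm_mem : ∀ z ∈ commutator Γ, ((z, 1) : Γ × Multiplicative ℤ) ∈ U := by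
    intro z hz
    have hle : commutator Γ ≤ U.comap (MonoidHom.inl Γ (Multiplicative ℤ)) := by
      rw [commutator_def, Subgroup.commutator_le]
      intro a _ b _
      show ((⁅a, b⁆, 1) : Γ × Multiplicative ℤ) ∈ U
      obtain ⟨u, hu, eu⟩ : σ a ∈ U.map φ := himg ▸ Subgroup.mem_top _
      obtain ⟨v, hv, ev⟩ : σ b ∈ U.map φ := himg ▸ Subgroup.mem_top _
      obtain ⟨k, hk, rfl⟩ := hcs.eq_mul_of_map_eq (show σ a = σ u.1 from eu.symm)
      obtain ⟨l, hl, rfl⟩ := hcs.eq_mul_of_map_eq (show σ b = σ v.1 from ev.symm)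
      rw [comm_mul_ker_left hcs _ _ hk, comm_mul_ker_right hcs _ _ hl]
      have e : ((⁅u.1, v.1⁆, 1) : Γ × Multiplicative ℤ) = ⁅u, v⁆ := Prod.ext rfl (by
        show 1 = u.2 * v.2 * u.2⁻¹ * v.2⁻¹
        rw [mul_comm u.2 v.2, mul_inv_cancel_right, mul_inv_cancel])
      rw [e, commutatorElement_def]
      exact mul_mem (mul_mem (mul_mem hu hv) (inv_mem hu)) (inv_mem hv)
    exact hle hz
  have key : σ.ker ≤ Subgroup.zpowers ((g : Γ × Multiplicative ℤ).1) := by
    intro z hz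
    have h1 : p ((z, 1) : Γ × Multiplicative ℤ) = 1 := by
      rw [hagree _ (hcomm_mem z (hσ.2.2 hz)), show φ ((z, 1) : Γ × Multiplicative ℤ) = 1 from hz, map_one]
    obtain ⟨n, hn, hnz⟩ := (QuotientGroup.eq_one_iff _).1 h1
    rw [SetLike.mem_coe, Subgroup.mem_sup] at hn
    obtain ⟨n3, hn3, _, ⟨d, rfl⟩, rfl⟩ := hn
    rw [Subgroup.mem_sup] at hn3
    obtain ⟨n2, hn2, _, ⟨c, rfl⟩, rfl⟩ := hn3
    rw [Subgroup.mem_sup] at hn2
    obtain ⟨_, ⟨a, rfl⟩, _, ⟨b, rfl⟩, rfl⟩ := hn2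
    have hd : deg (q ^ a * s ^ b * e₁ ^ c * e₂ ^ d) = 1 := congrArg Prod.snd hnz
    obtain ⟨k, hk⟩ := Subgroup.mem_zpowers_iff.1 (hg a b c d hd)
    refine Subgroup.mem_zpowers_iff.2 ⟨k, ?_⟩
    calc (g : Γ × Multiplicative ℤ).1 ^ k = ((g ^ k : Z) : Γ × Multiplicative ℤ).1 := rfl
      _ = z := by rw [hk]; exact congrArg Prod.fst hnz
  have h6 : orderOf ((g : Γ × Multiplicative ℤ).1) ∣ 6 :=
    orderOf_dvd_of_pow_eq_one (congrArg (fun w : Z => (w : Γ × Multiplicative ℤ).1) hg6)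
  refine ⟨?_, ?_⟩
  · exact isCyclic_of_injective (Subgroup.inclusion key) (Subgroup.inclusion_injective key)
  · exact (Subgroup.card_dvd_of_le key).trans ((Nat.card_zpowers _).dvd.trans h6)

end CfsgLib.KnownA.Fi22Schur
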