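import Cfsg.Agent.Lib.KnownA.Fi22Schur.Data
import Cfsg.Prelude.Def_Spor_Fi22

/-!
The checks of the rewriting certificates.
-/

set_option autoImplicit false
set_option maxRecDepth 100000
set_option Elab.async false

namespace CfsgLib.KnownA.Fi22Schur

open Cfsg.Spor CfsgLib.Trans3.Spider

/-- The nodes by number. -/
def node : ℕ → Fi22.Gen
  | 0 => .a | 1 => .b | 2 => .c | 3 => .d | 4 => .e | 5 => .f | 6 => .g | 7 => .h | _ => .i

/-- The labels. -/
def lab (x y : ℕ) : ℕ := coxLabel Fi22.edges (node x) (node y)

/-- The first E7 word. -/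
def e1Word : List ℕ := (List.replicate 9 [0, 1, 2, 3, 4, 5, 7]).flatten

/-- The second E7 word. -/
def e2Word : List ℕ := (List.replicate 9 [1, 2, 3, 4, 5, 6, 7]).flatten

/-- The spider word. -/
def spWord : List ℕ := (List.replicate 10 [3, 2, 1, 3, 4, 5, 3, 7, 8]).flatten

/-- The product of three conjugates of the spider word. -/
def triWord : List ℕ :=
  spWord ++ (conj1 ++ spWord ++ conj1.reverse) ++ (conj2 ++ spWord ++ conj2.reverse)

theorem e1_trivial : moves lab w1Moves (e1Word ++ e1Word) = some [] := by decide +kernel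

theorem e2_trivial : moves lab w2Moves (e2Word ++ e2Word) = some [] := by decide +kernel

theorem tri_trivial : moves lab w3Moves triWord = some [] := by decide +kernel

end CfsgLib.KnownA.Fi22Schur
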