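import Cfsg.Agent.Lib.Chev.E6FiHom
import Cfsg.Agent.Lib.InvChar.SporFi22Simple
import Cfsg.Agent.Lib.InvChar.SporFi23Cover
import Cfsg.Prelude.Def_KGroupFacts

/-!
The triple cover of the presented Fischer group inside the linear group of degree 27 over the field
with four elements, and fibre products of a double cover with a triple cover.
-/

set_option autoImplicit false
set_option maxRecDepth 100000
set_option linter.unusedSectionVars false

namespace CfsgLib.KnownA.Fi22Schur

open Cfsg.Lie CfsgLib.Chev CfsgLib.Chev.F4InE6 CfsgLib.Chev.E6C CfsgLib.Chev.FiInE6 CfsgLib.InvChar CfsgLib.InvChar.Coset Cfsg.Spor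
open Matrix

/-- The fibre product of a double and a triple stem extension is a sixfold one. -/
theorem fibre_stem {A B Q : Type} [Group A] [Group B] [Group Q] {f : A →* Q} {g : B →* Q}
    (hf : Cfsg.IsStemExtension f) (hg : Cfsg.IsStemExtension g) (h2 : Nat.card f.ker = 2)
    (h3 : Nat.card g.ker = 3) :
    ∃ (C : Type) (_ : Group C) (τ : C →* Q), Cfsg.IsStemExtension τ ∧ Nat.card τ.ker = 6 := by
  let C : Subgroup (A × B) :=
    MonoidHom.eqLocus (f.comp (MonoidHom.fst A B)) (g.comp (MonoidHom.snd A B))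
  have mem : ∀ a b, (a, b) ∈ C ↔ f a = g b := fun _ _ => Iff.rfl
  let pA : C →* A := (MonoidHom.fst A B).comp C.subtype
  let pB : C →* B := (MonoidHom.snd A B).comp C.subtype
  have hA : Function.Surjective pA := fun a => by
    obtain ⟨b, hb⟩ := hg.1 (f a)
    exact ⟨⟨(a, b), (mem a b).2 hb.symm⟩, rfl⟩
  have hB : Function.Surjective pB := fun b => by
    obtain ⟨a, ha⟩ := hf.1 (g b)
    exact ⟨⟨(a, b), (mem a b).2 ha⟩, rfl⟩
  have hker : ∀ p : C, p ∈ (f.comp pA).ker ↔ p.1.1 ∈ f.ker ∧ p.1.2 ∈ g.ker := fun p =>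
    ⟨fun h => ⟨h, ((mem _ _).1 p.2).symm.trans h⟩, fun h => h.1⟩
  refine ⟨C, inferInstance, f.comp pA, ⟨hf.1.comp hA, fun p hp => ?_, fun p hp => ?_⟩, ?_⟩
  · obtain ⟨ha, hb⟩ := (hker p).1 hp
    exact Subgroup.mem_center_iff.2 fun q => Subtype.ext (Prod.ext
      (Subgroup.mem_center_iff.1 (hf.2.1 ha) q.1.1) (Subgroup.mem_center_iff.1 (hg.2.1 hb) q.1.2))
  · obtain ⟨ha, hb⟩ := (hker p).1 hp
    have img : ∀ {M : Type} [Group M] (φ : C →* M), Function.Surjective φ →
        ∀ m ∈ commutator M, ∃ c ∈ commutator C, φ c = m := by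
      intro M _ φ hφ m hm
      rw [commutator_def, ← Subgroup.map_top_of_surjective _ hφ, ← Subgroup.map_commutator] at hm
      exact hm
    obtain ⟨c, hc, hcv⟩ := img pA hA p.1.1 (hf.2.2 ha)
    have hcv' : c.1.1 = p.1.1 := hcv
    have hck : c.1.2 ∈ g.ker := ((mem _ _).1 c.2).symm.trans (by rw [hcv']; exact ha)
    obtain ⟨d, hd, hdv⟩ := img pB hB (c.1.2⁻¹ * p.1.2) (hg.2.2 (mul_mem (inv_mem hck) hb))
    have hdv' : d.1.2 = c.1.2⁻¹ * p.1.2 := hdv
    have hdb : d.1.2 ∈ g.ker := hdv' ▸ mul_mem (inv_mem hck) hb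
    have hda : d.1.1 ∈ f.ker := ((mem _ _).1 d.2).trans hdb
    have a2 : d.1.1 ^ 2 = 1 := by
      have h := pow_card_eq_one' (x := (⟨d.1.1, hda⟩ : f.ker))
      rw [h2] at h
      exact congrArg Subtype.val h
    have b3 : d.1.2 ^ 3 = 1 := by
      have h := pow_card_eq_one' (x := (⟨d.1.2, hdb⟩ : g.ker))
      rw [h3] at h
      exact congrArg Subtype.val h
    have : p = c * d ^ 4 := Subtype.ext (Prod.ext
      (by show p.1.1 = c.1.1 * d.1.1 ^ 4
          rw [show 4 = 2 * 2 from rfl, pow_mul, a2, one_pow, mul_one, hcv'])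
      (by show p.1.2 = c.1.2 * d.1.2 ^ 4
          rw [pow_succ, b3, one_mul, hdv', mul_inv_cancel_left]))
    rw [this]
    exact mul_mem hc (pow_mem hd 4)
  · let i : (f.comp pA).ker ≃ f.ker × g.ker :=
      { toFun := fun p => (⟨p.1.1.1, ((hker p.1).1 p.2).1⟩, ⟨p.1.1.2, ((hker p.1).1 p.2).2⟩)
        invFun := fun q => ⟨⟨(q.1.1, q.2.1), (mem _ _).2 (q.1.2.trans q.2.2.symm)⟩, q.1.2⟩
        left_inv := fun p => rfl
        right_inv := fun q => rfl }
    rw [Nat.card_congr i, Nat.card_prod, h2, h3]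

theorem perfect_Fi22 : commutator Fi22 = ⊤ := by
  haveI := SporFi22.isSimpleGroup
  refine (Subgroup.Normal.eq_bot_or_eq_top (inferInstance : (commutator Fi22).Normal)).resolve_left fun h => ?_
  have : Subgroup.center Fi22 = ⊤ := (commutator_eq_bot_iff_center_eq_top Fi22).1 h
  rw [SporFi23.center_Fi22] at this
  exact bot_ne_top this

section Triple

variable {K : Type} [Field K] [Finite K] [CharP K 2] {ω : Kˣ} (hω : ω ^ 3 = 1) (h1 : ω ≠ 1)

/-- The scalars in the linear group of degree 27. -/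
noncomputable def scal (K : Type) [Field K] : Subgroup (GL I27 K) :=
  (Units.map (algebraMap K (Matrix I27 I27 K)).toMonoidHom).range

theorem mem_scal {y : GL I27 K} : y ∈ scal K ↔ IsScal y := by
  constructor
  · rintro ⟨c, rfl⟩
    exact ⟨(c : K), Algebra.algebraMap_eq_smul_one _⟩
  · rintro ⟨c, hc⟩
    have h0 : c ≠ 0 := fun h0 => by
      have := congrFun (congrFun (hc ▸ y.mul_inv : (c • (1 : Matrix I27 I27 K)) *
        ((y⁻¹ : GL I27 K) : Matrix I27 I27 K) = 1) (pt 0)) (pt 0)
      simp [h0] at this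
    exact ⟨Units.mk0 c h0, Units.ext (by rw [hc]; exact Algebra.algebraMap_eq_smul_one _)⟩

/-- The group generated by the nine matrices. -/
noncomputable def tri (ω : Kˣ) : Subgroup (GL I27 K) := Subgroup.closure (uX ω 0 '' Set.Iio 9)

theorem square_index : ∀ x < 9, ∃ k < 45, FiA.rels.getD k [] = [x, x] := by decide +kernel

theorem spider_index : 45 < FiA.rels.length ∧ ∀ x ∈ FiA.rels.getD 45 [], x < 9 := by decide +kernel

include hω h1

theorem rel_val {k : ℕ} (hk : k < 48) :
    ((wprod (uX ω 0) (FiA.rels.getD k []) : GL I27 K) : Matrix I27 I27 K) = emb (ω : K) (relCode k) • 1 := by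
  have h := rel_ok hk
  rw [relOK] at h
  simp only [Bool.and_eq_true] at h
  rw [← mat_scM (omega_sq hω h1), wprod]
  exact path_value hω h1 (fun x hx => mat_uX hω h1 hx) h.1.1 h.1.2 h.2

theorem uX_sq {x : ℕ} (hx : x < 9) : uX ω 0 x * uX ω 0 x = 1 := by
  obtain ⟨k, hk, e⟩ := square_index x hx
  have h := rel_val hω h1 (k := k) (by omega)
  rw [e, relCode, if_neg (by omega), emb_one, one_smul] at h
  refine Units.ext ?_
  simpa [wprod] using h

theorem spider_ne : wprod (uX ω 0) (FiA.rels.getD 45 []) ≠ 1 := by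
  intro e
  have h := rel_val hω h1 (k := 45) (by norm_num)
  rw [e, relCode, if_pos rfl] at h
  have h' := congrFun (congrFun h (pt 0)) (pt 0)
  simp [emb, scl, dec] at h'

set_option maxHeartbeats 1600000 in
theorem exists_triple (hK : Nat.card K = 4) :
    ∃ τ : tri ω →* Fi22, Cfsg.IsStemExtension τ ∧ Nat.card τ.ker = 3 := by
  haveI : Fintype K := Fintype.ofFinite K
  set S : Subgroup (tri ω) := (scal K).comap (tri ω).subtype with hS
  have hcen : S ≤ Subgroup.center (tri ω) := fun s hs => Subgroup.mem_center_iff.2 fun g =>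
    Subtype.ext ((mem_scal.1 hs).comm g).symm
  haveI : S.Normal := ⟨fun s hs g => by
    rw [Subgroup.mem_center_iff.1 (hcen hs) g, mul_inv_cancel_right]; exact hs⟩
  have hmem : ∀ x, x < 9 → uX ω 0 x ∈ tri ω := fun x hx => Subgroup.subset_closure ⟨x, hx, rfl⟩
  let gU : ℕ → tri ω := fun x => if h : x < 9 then ⟨uX ω 0 x, hmem x h⟩ else 1
  have gU_val : ∀ x < 9, (gU x : GL I27 K) = uX ω 0 x := fun x hx => by simp [gU, hx]
  have gU_sq : ∀ x, gU x * gU x = 1 := fun x => by
    rcases Nat.lt_or_ge x 9 with h | h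
    · exact Subtype.ext (by rw [Subgroup.coe_mul, gU_val x h, uX_sq hω h1 h]; rfl)
    · simp [gU, Nat.not_lt.2 h]
  have gU_gen : Subgroup.closure (gU '' Set.Iio 9) = ⊤ := by
    apply Subgroup.map_injective (f := (tri ω).subtype) (tri ω).subtype_injective
    rw [MonoidHom.map_closure, ← MonoidHom.range_eq_map, Subgroup.range_subtype, Set.image_image]
    show _ = Subgroup.closure (uX ω 0 '' Set.Iio 9)
    exact congrArg Subgroup.closure (Set.image_congr fun x hx => gU_val x hx)
  have gU_wprod : ∀ L : List ℕ, (∀ x ∈ L, x < 9) → ((wprod gU L : tri ω) : GL I27 K) = wprod (uX ω 0) L := by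
    intro L hL
    simp only [wprod, Subgroup.val_list_prod, List.map_map]
    exact congrArg List.prod (List.map_congr_left fun x hx => gU_val x (hL x hx))
  let p := QuotientGroup.mk' S
  obtain ⟨ψ, hψ⟩ := SporFi22.pres.exists_hom (fun x => p (gU x)) (fun x => by rw [← map_mul, gU_sq, map_one])
    (fun r hr => by
      have hw : wprod (fun x => p (gU x)) r = p (wprod gU r) := by
        simp only [wprod, map_list_prod, List.map_map]; rfl
      rw [hw]
      refine (QuotientGroup.eq_one_iff _).2 (?_ : ((wprod gU r : tri ω) : GL I27 K) ∈ scal K)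
      rw [gU_wprod r ((by decide +kernel : ∀ r ∈ FiA.rels, ∀ x ∈ r, x < 9) r hr)]
      exact mem_scal.2 (rel_scal hω h1 0 hr))
  have hsurj : Function.Surjective ψ := by
    rw [← MonoidHom.range_eq_top, eq_top_iff,
      ← Subgroup.map_top_of_surjective p (QuotientGroup.mk'_surjective S), ← gU_gen, MonoidHom.map_closure,
      Subgroup.closure_le]
    rintro _ ⟨_, ⟨x, hx, rfl⟩, rfl⟩
    exact ⟨SporFi22.gen x, hψ x hx⟩
  have hinj : Function.Injective ψ := by
    haveI := SporFi22.isSimpleGroup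
    rw [← MonoidHom.ker_eq_bot_iff]
    refine (Subgroup.Normal.eq_bot_or_eq_top inferInstance).resolve_right fun htop => ?_
    have hg : ψ (SporFi22.gen 3) = 1 := MonoidHom.mem_ker.1 (htop ▸ Subgroup.mem_top _)
    rw [hψ 3 (by norm_num)] at hg
    have hs : IsScal (uX ω 0 3) := by
      have := (QuotientGroup.eq_one_iff _).1 hg
      exact mem_scal.1 (gU_val 3 (by norm_num) ▸ this)
    obtain ⟨d, hd⟩ := hs
    rw [mat_uX hω h1 (by norm_num)] at hd
    have he := congrFun (congrFun hd (pt 9)) (pt 10)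
    have hrow : row (xTbl 3) 9 = (1536, 0) := by decide +kernel
    have hne : pt 9 ≠ pt 10 := by decide
    rw [mat_apply, e_pt (by norm_num), e_pt (by norm_num), hrow, Matrix.smul_apply,
      Matrix.one_apply_ne hne, smul_zero] at he
    simp [dec, Nat.testBit_eq_decide_div_mod_eq] at he
  let e : Fi22 ≃* (tri ω ⧸ S) := MulEquiv.ofBijective ψ ⟨hinj, hsurj⟩
  let τ : tri ω →* Fi22 := e.symm.toMonoidHom.comp p
  have hker : τ.ker = S := by
    ext u
    rw [MonoidHom.mem_ker, MonoidHom.comp_apply, MulEquiv.coe_toMonoidHom, MulEquiv.map_eq_one_iff]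
    exact QuotientGroup.eq_one_iff u
  have hcardK : Nat.card Kˣ = 3 := by
    rw [Nat.card_units, hK]
  have hdvd : Nat.card S ∣ 3 := by
    let i : S →* scal K := MonoidHom.mk' (fun s => ⟨s.1.1, s.2⟩) fun _ _ => rfl
    have hi : Function.Injective i := fun a b h => Subtype.ext (Subtype.ext
      (congrArg (fun t : scal K => (t : GL I27 K)) h))
    refine (Subgroup.card_dvd_of_injective i hi).trans (dvd_trans ?_ hcardK.dvd)
    exact Subgroup.card_range_dvd (Units.map (algebraMap K (Matrix I27 I27 K)).toMonoidHom)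
  have hne : Nat.card S ≠ 1 := fun h => by
    rw [Subgroup.card_eq_one] at h
    have hs : wprod gU (FiA.rels.getD 45 []) ∈ S := by
      show ((wprod gU (FiA.rels.getD 45 []) : tri ω) : GL I27 K) ∈ scal K
      rw [gU_wprod _ spider_index.2]
      refine mem_scal.2 (rel_scal hω h1 0 ?_)
      rw [List.getD_eq_getElem _ _ spider_index.1]
      exact List.getElem_mem _
    rw [h, Subgroup.mem_bot] at hs
    refine spider_ne hω h1 ?_
    rw [← gU_wprod _ spider_index.2, hs]; rfl
  have hcard : Nat.card S = 3 := ((Nat.dvd_prime Nat.prime_three).1 hdvd).resolve_left hne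
  refine ⟨τ, ⟨e.symm.surjective.comp (QuotientGroup.mk'_surjective S), hker ▸ hcen, ?_⟩, by rw [hker, hcard]⟩
  rw [hker]
  intro s hs
  have hsq : ∀ u : tri ω, (Abelianization.of u) ^ 2 = 1 := by
    intro u
    have hu : u ∈ Subgroup.closure (gU '' Set.Iio 9) := gU_gen ▸ Subgroup.mem_top u
    induction hu using Subgroup.closure_induction with
    | mem y hy =>
      obtain ⟨x, -, rfl⟩ := hy
      rw [← map_pow, pow_two, gU_sq, map_one]
    | one => rw [map_one, one_pow]
    | mul a b _ _ ha hb => rw [map_mul, mul_pow, ha, hb, one_mul]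
    | inv a _ ha => rw [map_inv, inv_pow, ha, inv_one]
  have h3 : s ^ 3 = 1 := by
    have h := pow_card_eq_one' (x := (⟨s, hs⟩ : S))
    rw [hcard] at h
    exact congrArg Subtype.val h
  have h2 : s ^ 2 ∈ commutator (tri ω) := by
    rw [← Abelianization.ker_of, MonoidHom.mem_ker, map_pow, hsq]
  have : s = (s ^ 2) ^ 2 := by rw [← pow_mul, pow_succ, h3, one_mul]
  rw [this]
  exact pow_mem h2 2

end Triple

end CfsgLib.KnownA.Fi22Schur
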