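import Cfsg.Agent.Lib.KnownA.Fi22Schur.Cert
import Cfsg.Agent.Lib.InvChar.SporFi22Trans
import Cfsg.Agent.Lib.KnownA.CExt.Pair
import Cfsg.Agent.Lib.Classical.UMinDegMain
import Cfsg.Agent.Lib.Trans3.BraidClass

/-!
Lifts of the generators of the presented Fischer group to a stem extension: exact braid relations
along the tree, exact commutations, one common square.
-/

set_option autoImplicit false
set_option maxRecDepth 100000
set_option linter.unusedSectionVars false

namespace CfsgLib.KnownA.Fi22Schur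

open Cfsg.Spor CfsgLib.InvChar CfsgLib.InvChar.Coset CfsgLib.KnownA.CExt
open scoped commutatorElement

/-- A non-split double cover of a perfect group is perfect. -/
theorem perfect_of_nonsplit {H K : Type*} [Group H] [Finite H] [Group K]
    (h : Cfsg.IsNonsplitDoubleCover H K) (hK : commutator K = ⊤) : commutator H = ⊤ := by
  obtain ⟨hc, ⟨q⟩, hs⟩ := h
  set Z := Subgroup.center H
  set D := commutator H
  let f : H →* K := q.toMonoidHom.comp (QuotientGroup.mk' Z)
  have hf : Function.Surjective f := q.surjective.comp (QuotientGroup.mk'_surjective Z)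
  have hfk : ∀ x, f x = 1 → x ∈ Z := fun x hx => by
    have : (QuotientGroup.mk' Z x) = 1 := q.injective (by rw [map_one]; exact hx)
    exact (QuotientGroup.eq_one_iff x).1 this
  have hdec : ∀ x, ∃ d ∈ D, d⁻¹ * x ∈ Z := fun x => by
    have : f x ∈ D.map f := by
      show f x ∈ (commutator H).map f
      rw [commutator_def, Subgroup.map_commutator, Subgroup.map_top_of_surjective _ hf, ← commutator_def, hK]
      exact Subgroup.mem_top _
    obtain ⟨d, hd, e⟩ := this
    exact ⟨d, hd, hfk _ (by rw [map_mul, map_inv, e, inv_mul_cancel])⟩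
  by_cases hZ : Z ≤ D
  · rw [eq_top_iff]
    intro x _
    obtain ⟨d, hd, hz⟩ := hdec x
    rw [← mul_inv_cancel_left d x]
    exact mul_mem hd (hZ hz)
  · exfalso
    refine hs D (Subgroup.isComplement'_of_disjoint_and_mul_eq_univ ?_ (Set.eq_univ_of_forall fun x => ?_))
    · rw [disjoint_iff, Subgroup.eq_bot_iff_forall]
      intro x hx
      by_contra hne
      refine hZ fun y hy => ?_
      haveI : Fact (Nat.Prime 2) := ⟨Nat.prime_two⟩
      have hg := zpowers_eq_top_of_prime_card (p := 2) (G := Z) hc (g := ⟨x, hx.1⟩)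
        (fun e => hne (congrArg Subtype.val e))
      obtain ⟨k, hk⟩ := Subgroup.mem_zpowers_iff.1 (hg ▸ Subgroup.mem_top (⟨y, hy⟩ : Z))
      rw [show y = x ^ k from (congrArg Subtype.val hk).symm]
      exact D.zpow_mem hx.2 k
    · obtain ⟨d, hd, hz⟩ := hdec x
      exact ⟨d⁻¹ * x, hz, d, hd, by
        show d⁻¹ * x * d = x
        rw [← Subgroup.mem_center_iff.1 hz d, mul_inv_cancel_left]⟩

theorem commutator_eq_top_of_mulEquiv {A B : Type*} [Group A] [Group B] (e : A ≃* B)
    (h : commutator A = ⊤) : commutator B = ⊤ := by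
  rw [commutator_def, ← Subgroup.map_top_of_surjective e.toMonoidHom e.surjective, ← Subgroup.map_commutator,
    ← commutator_def, h]

theorem perfect_psu : commutator (Cfsg.PSU 6 FQ4 2) = ⊤ := by
  rw [commutator_def, ← Subgroup.map_top_of_surjective _
    (QuotientGroup.mk'_surjective (Subgroup.center (Cfsg.SU 6 FQ4 2))), ← Subgroup.map_commutator,
    ← commutator_def, CfsgLib.Classical.UMinDeg.commutator_su SporFi22U6.hF (by norm_num) (by norm_num)]

/-- The generators. -/
noncomputable abbrev gn : ℕ → Fi22 := SporFi22.gen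

theorem node_eq : ∀ x < 9, node x = SporFi22.ofN x := by decide +kernel

theorem gn_rel {x y : ℕ} (hx : x < 9) (hy : y < 9) : (gn x * gn y) ^ lab x y = 1 := by
  have key : ∀ x y, coxWord Fi22.edges SporFi22.ofN x y ∈ FiA.rels →
      (gn x * gn y) ^ coxLabel Fi22.edges (SporFi22.ofN x) (SporFi22.ofN y) = 1 := fun x y h => by
    have := SporFi22.pres.gen_rel _ h
    rwa [coxWord, wprod_replicate] at this
  rw [lab, node_eq x hx, node_eq y hy]
  rcases (SporFi22.pres.forall_letter x hx).2.2.2 y hy with h | h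
  · exact key x y h
  · have e := key y x h
    have hsymm : coxLabel Fi22.edges (SporFi22.ofN y) (SporFi22.ofN x) =
        coxLabel Fi22.edges (SporFi22.ofN x) (SporFi22.ofN y) := by
      rcases eq_or_ne (SporFi22.ofN x) (SporFi22.ofN y) with e | hne
      · rw [e]
      · simp only [coxLabel, if_neg hne, if_neg hne.symm, or_comm]
    rw [hsymm] at e
    rw [← inv_eq_one, ← inv_pow, mul_inv_rev, inv_eq_of_mul_eq_one_right (SporFi22.gen_mul_self _),
      inv_eq_of_mul_eq_one_right (SporFi22.gen_mul_self _)]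
    exact e

theorem gn_braid {x y : ℕ} (hx : x < 9) (hy : y < 9) (h : lab x y = 3) :
    gn x * gn y * gn x = gn y * gn x * gn y :=
  DoubleCoverUtil.braid_conj (SporFi22.gen_mul_self x) (SporFi22.gen_mul_self y) (h ▸ gn_rel hx hy)

theorem gn_comm {x y : ℕ} (hx : x < 9) (hy : y < 9) (h : lab x y = 2) : gn x * gn y = gn y * gn x := by
  have e : gn x * gn y * (gn x * gn y) = 1 := by rw [← pow_two, ← h]; exact gn_rel hx hy
  calc gn x * gn y = (gn x * gn y)⁻¹ := eq_inv_of_mul_eq_one_left e
    _ = _ := by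
      rw [mul_inv_rev, inv_eq_of_mul_eq_one_right (SporFi22.gen_mul_self _),
        inv_eq_of_mul_eq_one_right (SporFi22.gen_mul_self _)]

/-- The tree of the graph: the parent of a node. -/
def par (x : ℕ) : ℕ := [0, 0, 1, 2, 3, 4, 5, 3, 7].getD x 0

theorem par_spec : ∀ x < 9, 1 ≤ x → par x < x ∧ lab (par x) x = 3 := by decide +kernel

theorem edge_par : ∀ x < 9, ∀ y < 9, lab x y = 3 → (1 ≤ y ∧ x = par y) ∨ (1 ≤ x ∧ y = par x) := by
  decide +kernel

theorem lab_cases : ∀ x < 9, ∀ y < 9, (lab x y = 1 ∧ x = y) ∨ lab x y = 2 ∨ lab x y = 3 := by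
  decide +kernel

theorem gn_conj : ∀ x < 9, gn x ∈ conjugatesOf (gn 0) := by
  intro x
  induction x using Nat.strong_induction_on with
  | _ x ih =>
    intro hx
    rcases Nat.eq_zero_or_pos x with rfl | h1
    · exact mem_conjugatesOf_self
    obtain ⟨hp, hl⟩ := par_spec x hx h1
    exact IsConj.trans (ih _ hp (by omega)) (Trans3.braid_isConj (SporFi22.gen_mul_self _)
      (SporFi22.gen_mul_self _) (gn_braid (by omega) hx hl))

theorem perfect_centralizer {d : Fi22} (hd : d ∈ conjugatesOf (gn 0)) :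
    commutator (Subgroup.centralizer ({d} : Set Fi22)) = ⊤ := by
  haveI : Finite Fi22 := SporFi22.card_le.1
  exact perfect_of_nonsplit (SporFi22.centralizer_transposition d hd) perfect_psu

variable {Γ : Type*} [Group Γ] {σ : Γ →* Fi22} (hσ : IsCentralSurj σ)
include hσ

/-- Lifts of commuting elements commute, when the centraliser of the first is perfect. -/
theorem lift_commute {x y : Fi22} (hperf : commutator (Subgroup.centralizer ({x} : Set Fi22)) = ⊤)
    (hxy : x * y = y * x) {X Y : Γ} (hX : σ X = x) (hY : σ Y = y) : X * Y = Y * X := by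
  set C := (Subgroup.centralizer ({x} : Set Fi22)).comap σ with hC
  have hker : ∀ K ∈ C, ⁅X, K⁆ ∈ σ.ker := fun K hK => by
    have h : σ K * x = x * σ K := Subgroup.mem_centralizer_singleton_iff.1 hK
    rw [MonoidHom.mem_ker, map_commutatorElement, hX, commutatorElement_eq_one_iff_mul_comm, h]
  let f : C →* Γ := MonoidHom.mk' (fun K => ⁅X, (K : Γ)⁆) fun K L => by
    show ⁅X, (K : Γ) * (L : Γ)⁆ = ⁅X, (K : Γ)⁆ * ⁅X, (L : Γ)⁆
    rw [commutatorElement_def, commutatorElement_def, commutatorElement_def, ← commutatorElement_def X (L : Γ)]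
    calc X * ((K : Γ) * L) * X⁻¹ * ((K : Γ) * L)⁻¹
        = X * K * X⁻¹ * ⁅X, (L : Γ)⁆ * (K : Γ)⁻¹ := by
          rw [commutatorElement_def]; group
      _ = _ := by
          rw [mul_assoc (X * K * X⁻¹), ← hσ.comm (hker L L.2) (K : Γ)⁻¹, ← mul_assoc]
  have hkill : commutator C ≤ f.ker := by
    rw [commutator_def, Subgroup.commutator_le]
    intro a _ b _
    rw [MonoidHom.mem_ker, map_commutatorElement, commutatorElement_eq_one_iff_mul_comm]
    exact (hσ.comm (hker a a.2) _).symm
  let g : C →* Subgroup.centralizer ({x} : Set Fi22) :=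
    MonoidHom.mk' (fun K => ⟨σ K, K.2⟩) fun K L => Subtype.ext (map_mul σ _ _)
  have hg : Function.Surjective g := fun c => by
    obtain ⟨K, hK⟩ := hσ.surj c
    exact ⟨⟨K, by show σ K ∈ Subgroup.centralizer ({x} : Set Fi22); rw [hK]; exact c.2⟩, Subtype.ext hK⟩
  have hYC : Y ∈ C := by
    show σ Y ∈ Subgroup.centralizer ({x} : Set Fi22)
    rw [Subgroup.mem_centralizer_singleton_iff, hY, hxy]
  have : g ⟨Y, hYC⟩ ∈ (commutator C).map g := by
    rw [commutator_def, Subgroup.map_commutator, Subgroup.map_top_of_surjective _ hg, ← commutator_def, hperf]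
    exact Subgroup.mem_top _
  obtain ⟨c, hc, e⟩ := this
  have hk : (c : Γ)⁻¹ * Y ∈ σ.ker := by
    have e' : σ (c : Γ) = σ Y := congrArg Subtype.val e
    rw [MonoidHom.mem_ker, map_mul, map_inv, e', inv_mul_cancel]
  obtain ⟨k, hk, hYk⟩ : ∃ k ∈ σ.ker, Y = (c : Γ) * k := ⟨_, hk, (mul_inv_cancel_left _ _).symm⟩
  have h1 : ⁅X, (c : Γ)⁆ = 1 := hkill hc
  rw [← commutatorElement_eq_one_iff_mul_comm, hYk, comm_mul_ker_right hσ _ _ hk, h1]

/-- Lifts with exact braid relations along the tree. -/
theorem exists_tree_lifts : ∀ n ≤ 9, ∃ X : ℕ → Γ, (∀ x < n, σ (X x) = gn x) ∧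
    ∀ x < n, 1 ≤ x → X (par x) * X x * X (par x) = X x * X (par x) * X x := by
  intro n
  induction n with
  | zero => exact fun _ => ⟨fun _ => 1, fun x hx => absurd hx (Nat.not_lt_zero x), fun x hx => absurd hx (Nat.not_lt_zero x)⟩
  | succ n ih =>
    intro hn
    obtain ⟨X, h1, h2⟩ := ih (by omega)
    obtain ⟨Z₀, hZ⟩ := hσ.surj (gn n)
    obtain ⟨Y, hY, hbr⟩ : ∃ Y, σ Y = gn n ∧
        (1 ≤ n → X (par n) * Y * X (par n) = Y * X (par n) * Y) := by
      by_cases hn1 : 1 ≤ n
      · obtain ⟨hp, hl⟩ := par_spec n (by omega) hn1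
        set P := X (par n)
        have hP : σ P = gn (par n) := h1 _ hp
        set k := (Z₀ * P * Z₀)⁻¹ * (P * Z₀ * P) with hk
        have hkk : k ∈ σ.ker := by
          rw [MonoidHom.mem_ker, hk]
          simp only [map_mul, map_inv, hP, hZ, gn_braid (x := par n) (y := n) (by omega) (by omega) hl,
            inv_mul_cancel]
        have c : ∀ a, k * a = a * k := fun a => (hσ.comm hkk a).symm
        refine ⟨Z₀ * k, by rw [map_mul, hZ, MonoidHom.mem_ker.1 hkk, mul_one], fun _ => ?_⟩
        calc P * (Z₀ * k) * P = P * Z₀ * (k * P) := by simp only [mul_assoc]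
          _ = P * Z₀ * P * k := by rw [c]; simp only [mul_assoc]
          _ = Z₀ * P * Z₀ * k * k := by rw [hk]; group
          _ = Z₀ * (P * Z₀ * k) * k := by simp only [mul_assoc]
          _ = Z₀ * (k * (P * Z₀)) * k := by rw [c (P * Z₀)]
          _ = Z₀ * k * P * (Z₀ * k) := by simp only [mul_assoc]
      · exact ⟨Z₀, hZ, fun h => absurd h hn1⟩
    refine ⟨Function.update X n Y, fun x hx => ?_, fun x hx hx1 => ?_⟩
    · rcases Nat.lt_succ_iff_lt_or_eq.1 hx with h | rfl
      · rw [Function.update_of_ne h.ne, h1 x h]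
      · rw [Function.update_self, hY]
    · obtain ⟨hp, -⟩ := par_spec x (by omega) hx1
      rcases Nat.lt_succ_iff_lt_or_eq.1 hx with h | rfl
      · rw [Function.update_of_ne h.ne, Function.update_of_ne (by omega), h2 x h hx1]
      · rw [Function.update_self, Function.update_of_ne hp.ne, hbr hx1]

/-- The lifts. -/
theorem exists_lifts : ∃ X : ℕ → Γ, (∀ x < 9, σ (X x) = gn x) ∧
    (∀ x < 9, ∀ y < 9, lab x y = 2 → X x * X y = X y * X x) ∧
    (∀ x < 9, ∀ y < 9, lab x y = 3 → X x * X y * X x = X y * X x * X y) ∧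
    (∀ x < 9, X x * X x = X 0 * X 0) := by
  obtain ⟨X, h1, h2⟩ := exists_tree_lifts hσ 9 le_rfl
  refine ⟨X, h1, fun x hx y hy h => lift_commute hσ (perfect_centralizer (gn_conj x hx)) (gn_comm hx hy h)
    (h1 x hx) (h1 y hy), fun x hx y hy h => ?_, ?_⟩
  · rcases edge_par x hx y hy h with ⟨hy1, rfl⟩ | ⟨hx1, rfl⟩
    · exact h2 y hy hy1
    · exact (h2 x hx hx1).symm
  · intro x
    induction x using Nat.strong_induction_on with
    | _ x ih =>
      intro hx
      rcases Nat.eq_zero_or_pos x with rfl | hx1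
      · rfl
      obtain ⟨hp, -⟩ := par_spec x hx hx1
      set P := X (par x)
      set Y := X x
      have hb : P * Y * P = Y * P * Y := h2 x hx hx1
      have hker : P * P ∈ σ.ker := by
        rw [MonoidHom.mem_ker, map_mul, h1 _ (by omega), SporFi22.gen_mul_self]
      rw [← ih _ hp (by omega)]
      calc Y * Y = (P * Y) * (P * P) * (P * Y)⁻¹ := by
            have e : Y = (P * Y) * P * (P * Y)⁻¹ := by rw [hb]; group
            conv_lhs => rw [e]
            group
        _ = P * P := hσ.conj_ker hker _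

end CfsgLib.KnownA.Fi22Schur
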