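import Cfsg.Agent.Lib.KnownA.Fi22Schur.Bound
import Cfsg.Agent.Lib.KnownA.Fi22Schur.Cover
import Cfsg.Agent.Lib.Coprime.SchurAbelian

/-!
The Schur multiplier of the presented Fischer group is cyclic of order six.
-/

set_option autoImplicit false
set_option maxRecDepth 100000

namespace CfsgLib.KnownA.Fi22Schur

open CfsgLib.InvChar Cfsg.Spor

theorem toFi22_stem : Cfsg.IsStemExtension SporFi23.toFi22 := by
  haveI := SporFi23.card_H_le.1
  refine ⟨SporFi23.toFi22_surjective, SporFi23.center_H.ge, ?_⟩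
  rw [perfect_of_nonsplit SporFi23.isNonsplitDoubleCover perfect_Fi22]
  exact le_top

theorem hasCyclicSchurMultiplier_Fi22 : Cfsg.HasCyclicSchurMultiplier Fi22 6 := by
  haveI : Finite Fi22 := SporFi22.card_le.1
  haveI : Fact (Nat.Prime 2) := ⟨Nat.prime_two⟩
  haveI : CharP FQ4 2 := charP_of_card_eq_prime_pow (f := 2) FQ4.card_eq
  let ω : FQ4ˣ := Units.mk0 ⟨2⟩ (by decide)
  have hω : ω ^ 3 = 1 := Units.ext (by
    rw [Units.val_pow_eq_pow_val, Units.val_mk0, Units.val_one, pow_succ, pow_two]; decide)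
  have h1 : ω ≠ 1 := fun h => (by decide : (⟨2⟩ : FQ4) ≠ 1) (congrArg Units.val h)
  obtain ⟨τ₃, hτ₃, hc₃⟩ := exists_triple hω h1 (by rw [Nat.card_eq_fintype_card, FQ4.card_eq])
  haveI := SporFi23.card_H_le.1
  obtain ⟨C, _, τ, hτ, hc⟩ := fibre_stem toFi22_stem hτ₃ SporFi23.card_H_ker.2 hc₃
  exact CfsgLib.Schur.hasCyclicSchurMultiplier_of_bound' hτ hc fun Γ _ _ σ hσ => stem_bound hσ

end CfsgLib.KnownA.Fi22Schur
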